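import Mathlib
import Groth.Agent.AmpleLib.Basis
import Groth.Agent.AmpleLib.ExtendMod
import Groth.Prelude.Def_SecTwist

/-! Comparison of the prelude's `SecTwist` sections with the sections of `AmpleLib`. -/

set_option autoImplicit false
universe u

open CategoryTheory AlgebraicGeometry TopologicalSpace Opposite
open Groth.Agent.ParaFLib Groth.Agent.PullbackMod Groth.Agent.DCohLib Groth.Agent.AmpleLib

noncomputable section

namespace Groth.Agent.SecTwistBridge

variable {X : Scheme.{u}} {L : X.Modules}

theorem tmul_eq (M N : X.Modules) (U : X.Opens) (m : Γ(M, U)) (n : Γ(N, U)) :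
    SecTwist.tmul M N U m n = pairS M N m n := rfl

theorem val_eq (s : Coh.structureModule X ⟶ L) (U : X.Opens) :
    (SecTwist.val s U : Γ(L, U)) = resT (sec s) U :=
  ((app_eq s U 1).trans (one_smul _ _))

theorem pow_eq (s : Coh.structureModule X ⟶ L) (U : X.Opens) :
    ∀ n, (SecTwist.pow s n U : Γ(CohB1.tensorPow L n, U)) = powLoc (resT (sec s) U) n
  | 0 => rfl
  | n + 1 => by
    show pairS (CohB1.tensorPow L n) L (SecTwist.pow s n U) (SecTwist.val s U) = _
    rw [pow_eq s U n, val_eq]
    rfl

theorem twist_eq (s : Coh.structureModule X ⟶ L) (n : ℕ) (F : X.Modules) (U : X.Opens) (t : Γ(F, U)) :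
    SecTwist.twist s n F U t = pairS F (CohB1.tensorPow L n) t (powLoc (resT (sec s) U) n) :=
  congrArg (fun v => pairS F (CohB1.tensorPow L n) t v) (pow_eq s U n)

end Groth.Agent.SecTwistBridge
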